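import Groth.Agent.Par.K208.HtDatum
import Groth.Agent.Sga3B.Par.LevFin622
import Groth.Agent.Sga3B.SplitFin885
import Groth.Agent.Sga3B.SplitRedField415
import Groth.Agent.Agf.H582.ConjDict

/-!
# The height cocharacter of a parabolic subgroup over an affine base

`exists_ht`: `G` reductive over `Spec A`, `P` a parabolic subgroup: there are `N ≥ 1` and a
cocharacter `λ` of `G` with `P = P_G(λ)` such that étale-locally `λ` comes from a coweight `y` of
a splitting with values in `N ℤ` on the roots, without gaps.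
-/

set_option autoImplicit false
set_option linter.unusedSectionVars false

universe u

open CategoryTheory MonoidalCategory CartesianMonoidalCategory MonObj GrpObj AlgebraicGeometry Limits
open scoped LaurentPolynomial Polynomial TensorProduct
open WithConv
open Groth.Agent.Books.AffBridge Groth.Agent.Books.DynBasic Groth.Agent.Books.DynLim
open Groth.Agent.Sga3B.Parab Groth.Agent.Sga3B.Parab.Chart998 Groth.Agent.Sga3B.Parab.AffPts998
open Groth.Agent.Sga3B.Parab.Dyn998 Groth.Agent.Sga3B.Par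
open Groth.Agent.Sga3B.Parab.DynExist998 Groth.Agent.Sga3B.Parab.DynBc998
open Groth.Agent.Sga3B.Par.RelCoch742 Groth.Agent.Sga3B.Par.PiCoch742
open Groth.Agent.Sga3B.Par.RCOver742 Groth.Agent.Sga3B.Par.RCHom742
open Groth.Agent.Sga3B.Par.LeviAsm742

namespace Groth.Agent.Par.K208.HtCochar

open Groth.Agent.Sga3B

section Main

variable {A : Type u} [CommRing A] {G P : Over (Spec (CommRingCat.of A))} [GrpObj G] [GrpObj P]
variable {p : P ⟶ G} {H : Type u} [CommRing H] [HopfAlgebra A H] (e : P ≅ SpecOver A H)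
  [IsMonHom e.hom] {m : ℤ}

section Data

variable {B : Type u} [CommRing B] [Algebra A B] {C : Type u} [CommRing C] [Algebra A C]

lemma bcStmt (φ : B →ₐ[A] C) (L : HD (sB A B) p m) : ∃ L' : HD (sB A C) p m,
      L'.co.left ≫ pullback.fst P.hom (sB A C) =
      (bcLam L.co (Spec.map (CommRingCat.ofHom φ.toRingHom))).left ≫
        pullback.fst (Red.bc (sB A B) P).hom (Spec.map (CommRingCat.ofHom φ.toRingHom)) ≫
        pullback.fst P.hom (sB A B) := by
  apply HD.exists_bc'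
  rw [sB, sB, ← Spec.map_comp, ← CommRingCat.ofHom_comp]
  congr 2
  exact φ.comp_algebraMap

variable [IsMonHom p] [IsClosedImmersion p.left] [IsAffineHom P.hom] [LocallyOfFiniteType P.hom]

/-- The relative cocharacter of height data. -/
noncomputable def rc (L : HD (sB A B) p m) : WithConv (H →ₐ[A] B[T;T⁻¹]) :=
  lc (bcModel (sB A B) e) L.co

lemma isRC_rc (L : HD (sB A B) p m) : IsRC (rc e L) := isRC_lc _ _

lemma limExR_rc (hm : 0 < m) (L : HD (sB A B) p m) (φ : B →ₐ[A] C) (g : WithConv (H →ₐ[A] C)) :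
    LimExR (rc e L) φ g := by
  rw [rc, limExR_lc (bcModel (sB A B) e) L.co rfl]
  exact ptP_iff.1 (((L.isDynP_co hm).iff_ptP _ _).1 ⟨_, Category.comp_id _⟩)

variable {D : Type u} [CommRing D] [Algebra A D]

lemma hu_rc (hm : 0 < m) (L : HD (sB A B) p m) (L' : HD (sB A D) p m)
    (φ : B →ₐ[A] C) (φ' : D →ₐ[A] C) (x : Cˣ) :
    LimOneR (rc e L) φ (val (rc e L) φ x * (val (rc e L') φ' x)⁻¹) := by
  obtain ⟨L₁, h₁⟩ := bcStmt φ L
  obtain ⟨L₂, h₂⟩ := bcStmt φ' L'
  have a1 : IsAffineHom (Red.bc (sB A C) P).hom :=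
    MorphismProperty.pullback_snd (P := @IsAffineHom) P.hom (sB A C) inferInstance
  have a2 : LocallyOfFiniteType (Red.bc (sB A C) P).hom :=
    MorphismProperty.pullback_snd (P := @LocallyOfFiniteType) P.hom (sB A C) inferInstance
  have e₁ : rc e L₁ = bcC φ (rc e L) := lc_bc e φ L.co L₁.co h₁
  have e₂ : rc e L₂ = bcC φ' (rc e L') := lc_bc e φ' L'.co L₂.co h₂
  have v₁ : val (rc e L) φ x = val (rc e L₁) (AlgHom.id A C) x := by
    rw [e₁, ← val_comp, AlgHom.id_comp]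
  have v₂ : val (rc e L') φ' x = val (rc e L₂) (AlgHom.id A C) x := by
    rw [e₂, ← val_comp, AlgHom.id_comp]
  have h3 := limOneR_comp (rc e L) φ (AlgHom.id A C)
    (val (rc e L) φ x * (val (rc e L') φ' x)⁻¹)
  rw [AlgHom.id_comp] at h3
  rw [h3, ← e₁, v₁, v₂, rc, limOneR_lc (bcModel (sB A C) e) L₁.co (hid (A := A) (B := C)), map_mul,
    map_inv, rc, val_lc _ _ (hid (A := A) (B := C)), val_lc _ _ (hid (A := A) (B := C)), E_ev, E_ev]
  exact ptU_iff.1 (L₁.ptU_co hm L₂ _ _)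

end Data

include e in
/-- Assembly: a global cocharacter which is locally conjugate to the height cocharacters. -/
theorem main₁ [IsMonHom p] [IsClosedImmersion p.left]
    [IsAffineHom P.hom] [LocallyOfFiniteType P.hom]
    [Algebra.Smooth A H] (hm : 0 < m) {n : ℕ} (B : ULift.{u} (Fin n) → Type u)
    [∀ i, CommRing (B i)] [∀ i, Algebra A (B i)] [Module.FaithfullyFlat A (∀ i, B i)]
    (L : ∀ i, HD (sB A (B i)) p m) :
    ∃ (l0 : WithConv (H →ₐ[A] A[T;T⁻¹])) (v : WithConv (H →ₐ[A] (∀ i, B i))), IsRC l0 ∧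
      ∀ i, lc (bcModel (sB A (B i)) e) (bcLam (ofRC (idM e) l0) (sB A (B i))) =
        mapPt (cst A (B i)) (mapPt (Pi.evalAlgHom A B i) v) * rc e (L i) *
          (mapPt (cst A (B i)) (mapPt (Pi.evalAlgHom A B i) v))⁻¹ := by
  obtain ⟨l0, v, h0, hv⟩ := LevFin622.tStmt (glue fun i => rc e (L i))
    (isRC_glue fun i => isRC_rc e (L i))
    (fun C _ _ φ g => limExR_glue (fun i C _ _ φ g => limExR_rc e hm (L i) φ g) φ g)
    (fun C _ _ φ φ' x => hu_glue (fun i j C _ _ φ φ' x => hu_rc e hm (L i) (L j) φ φ' x)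
      φ φ' x)
  refine ⟨l0, v, h0, fun i => ?_⟩
  have h1 := lc_bcLam (B := B i) e (idM e) (fun hc hc' g => rfl) (ofRC (idM e) l0)
  have h2 : bcC (Algebra.ofId A (B i)) l0 = bcC (Pi.evalAlgHom A B i)
      (bcC (Algebra.ofId A (∀ i, B i)) l0) := by
    have h5 : (AddMonoidAlgebra.mapAlgHom ℤ (Pi.evalAlgHom A B i)).comp
        (AddMonoidAlgebra.mapAlgHom ℤ (Algebra.ofId A (∀ i, B i))) =
        (AddMonoidAlgebra.mapAlgHom ℤ (Algebra.ofId A (B i)) :
          A[T;T⁻¹] →ₐ[A] (B i)[T;T⁻¹]) := by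
      refine AlgHom.ext fun f => ?_
      ext n
      change (AddMonoidAlgebra.mapAlgHom ℤ (Pi.evalAlgHom A B i)
        (AddMonoidAlgebra.mapAlgHom ℤ (Algebra.ofId A (∀ i, B i)) f)).coeff n = _
      rw [AddMonoidAlgebra.coeff_mapAlgHom, AddMonoidAlgebra.coeff_mapAlgHom,
        AddMonoidAlgebra.coeff_mapAlgHom]
      rfl
    rw [bcC, bcC, bcC, mapPt_comp', h5]
  refine h1.trans ?_
  rw [lc_ofRC, h2, hv, bcC, map_mul, map_mul, map_inv]
  have h3 : mapPt (AddMonoidAlgebra.mapAlgHom ℤ (Pi.evalAlgHom A B i))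
      (glue fun i => rc e (L i)) = rc e (L i) := bcC_glue _ i
  have h4 : mapPt (AddMonoidAlgebra.mapAlgHom ℤ (Pi.evalAlgHom A B i))
      (mapPt (cst A (∀ i, B i)) v) = mapPt (cst A (B i)) (mapPt (Pi.evalAlgHom A B i) v) := by
    rw [mapPt_comp', mapPt_comp', map_comp_cst]
  rw [h3, h4]

include e in
/-- Assembly: a global cocharacter which is locally conjugate to the height cocharacters. -/
theorem main₀ [IsMonHom p] [IsClosedImmersion p.left]
    [IsAffineHom P.hom] [LocallyOfFiniteType P.hom]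
    [Algebra.Smooth A H] (hm : 0 < m) {n : ℕ} (B : ULift.{u} (Fin n) → Type u)
    [∀ i, CommRing (B i)] [∀ i, Algebra A (B i)] (hff : Module.FaithfullyFlat A (∀ i, B i))
    (L : ∀ i, HD (sB A (B i)) p m) :
    ∃ (lam : Red.Gm (Spec (CommRingCat.of A)) ⟶ P), IsMonHom lam ∧
      ∀ i, ∃ w : 𝟙_ (Over (Spec (CommRingCat.of (B i)))) ⟶ Red.bc (sB A (B i)) P,
        ConjDyn895.IsConj (L i).co w (bcLam lam (sB A (B i))) := by
  obtain ⟨l0, v, h0, h1⟩ := main₁ e hm B L
  refine ⟨ofRC (idM e) l0, isMonHom_ofRC (idM e) h0, fun i =>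
    ⟨sec (bcModel (sB A (B i)) e) (mapPt (Pi.evalAlgHom A B i) v), ?_⟩⟩
  exact conj_lc (bcModel (sB A (B i)) e) _ _ _ (h1 i)

end Main

section

variable {A : Type u} [CommRing A] {G P : Over (Spec (CommRingCat.of A))} [GrpObj G] [GrpObj P]

/-- A cocharacter of `P` which is locally conjugate to height cocharacters defines `P`. -/
theorem isDynP_of_conj {S : Scheme.{u}} {G P : Over S} [GrpObj G] [GrpObj P] {p : P ⟶ G}
    [IsMonHom p] [IsClosedImmersion p.left] [Mono p]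
    [IsAffineHom G.hom] {m : ℤ} (hm : 0 < m) {J : Type u} {S' : J → Scheme.{u}}
    {f : ∀ i, S' i ⟶ S} (hcov : EtHom.IsCov f)
    (L : ∀ i, HD (f i) p m) (lam : Red.Gm S ⟶ P) (hlam : IsMonHom lam)
    (h : ∀ i, ∃ w : 𝟙_ (Over (S' i)) ⟶ Red.bc (f i) P,
      ConjDyn895.IsConj (L i).co w (bcLam lam (f i))) :
    IsDynP (lam ≫ p) p := by
  refine DynCov383.isDynP_of_cov hcov (lam ≫ p) p fun i => ?_
  obtain ⟨w, hw⟩ := h i
  rw [bcLam_comp]
  refine ConjDyn895.conj_isDynP _ w (L i).co _ hw ?_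
  rw [(L i).co_comp]
  exact (L i).isDynP_coch hm

theorem isConj_unique {S : Scheme.{u}} {P : Over S} [GrpObj P] {lam lam₁ lam₂ : Red.Gm S ⟶ P}
    {w : 𝟙_ (Over S) ⟶ P} (h₁ : ConjDyn895.IsConj lam w lam₁)
    (h₂ : ConjDyn895.IsConj lam w lam₂) : lam₁ = lam₂ := by
  have h10 := h₁ _ (𝟙 _)
  rw [← h₂, Category.id_comp, Category.id_comp] at h10
  exact h10

/-- Conjugation of height data by a section of `P`. -/
theorem exists_conj {S T : Scheme.{u}} {G P : Over S} [GrpObj G] [GrpObj P] {p : P ⟶ G}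
    [IsMonHom p] {c : T ⟶ S} {m : ℤ} (L : HD c p m) (w : 𝟙_ (Over T) ⟶ Red.bc c P) :
    ∃ L' : HD c p m, ConjDyn895.IsConj L.co w L'.co := by
  let q : Red.bc c P ⟶ Red.bc c G := (Over.pullback c).map p
  have hqm : IsMonHom q := L.L.dyn.isMonHom
  let κ : Grp.mk (Red.bc c G) ≅ Grp.mk (Red.bc c G) :=
    Grp.mkIso' (Agf.H582.ConjDict.conjIso (w ≫ q))
  have hκ : ∀ {X : Over T} (x : X ⟶ Red.bc c G),
      x ≫ (RedIso.und κ).hom = (toUnit X ≫ w ≫ q) * x * (toUnit X ≫ w ≫ q)⁻¹ := fun x =>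
    Agf.H582.ConjDict.comp_conjIso_hom (w ≫ q) x
  let κP : Red.bc c P ⟶ Red.bc c P := (Agf.H582.ConjDict.conjIso w).hom
  have hκP : ∀ {X : Over T} (x : X ⟶ Red.bc c P),
      x ≫ κP = (toUnit X ≫ w) * x * (toUnit X ≫ w)⁻¹ := fun x =>
    Agf.H582.ConjDict.comp_conjIso_hom w x
  have hsq : κP ≫ q = q ≫ (RedIso.und κ).hom := by
    rw [hκ, ← Category.id_comp κP, hκP, MonObj.mul_comp, MonObj.mul_comp,
      GrpObj.inv_comp]
    simp only [Category.assoc, Category.id_comp]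
  have hj : (L.L.j ≫ κP) ≫ q = (SplitIso848.splitOfIso κ L.L.D).i := by
    rw [Category.assoc, hsq, ← Category.assoc]
    exact congrArg (fun k => k ≫ (RedIso.und κ).hom) L.L.hj
  have hdyn : IsDynP (coch (SplitIso848.splitOfIso κ L.L.D) L.L.x) q := by
    have h1 := coch_splitOfIso κ L.L.D L.L.x
    have h2 : IsDynP (coch L.L.D L.L.x ≫ (RedIso.und κ).hom) q := by
      refine ConjDyn895.conj_isDynP' L.L.dyn w ?_
      intro X t
      rw [← Category.assoc, hκ]
    exact h1 ▸ h2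
  refine ⟨⟨⟨SplitIso848.splitOfIso κ L.L.D, L.L.x, L.L.j ≫ κP, hj, hdyn⟩, L.y, L.hy⟩, ?_⟩
  intro X t
  rw [← hκP, Category.assoc]
  congr 1

/-- local existence of splitting data with reduced root datum -/
theorem locStmt (hG : Red.IsReductive G) (p : P ⟶ G) (hp : Red.IsParabolic p)
    (s : Spec (CommRingCat.of A)) : ∃ (B : Type u) (_ : CommRing B) (_ : Algebra A B),
      Algebra.Etale A B ∧ s ∈ Set.range (sB A B) ∧ ∃ L : LD (sB A B) p, L.D.P.IsReduced := by
  obtain ⟨B, i1, i2, h1, ⟨s', h2⟩, ⟨L⟩⟩ := LevFin622.locStmt SplitFin885.splitTStmt hG p hp s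
  have : Nonempty (Spec (CommRingCat.of B)) := ⟨s'⟩
  exact ⟨B, i1, i2, h1, ⟨s', h2⟩, L, SplitReduced415.isReduced L.D⟩

/-- **The height cocharacter.** -/
theorem exists_htP (hG : Red.IsReductive G) (p : P ⟶ G) (hp : Red.IsParabolic p) :
    ∃ (N : ℕ) (lam : Red.Gm (Spec (CommRingCat.of A)) ⟶ P), 1 ≤ N ∧ IsMonHom lam ∧
      IsDynP (lam ≫ p) p ∧
      ∀ s : Spec (CommRingCat.of A), ∃ (B : Type u) (_ : CommRing B) (_ : Algebra A B),
        Algebra.Etale A B ∧ s ∈ Set.range (sB A B) ∧ ∃ L : HD (sB A B) p N,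
          L.co = bcLam lam (sB A B) := by
  have h1 : IsMonHom p := hp.1
  have h2 : IsClosedImmersion p.left := hp.2.1
  have h3 : Mono p := Over.mono_of_mono_left p
  have h4 : IsAffineHom G.hom := hG.1
  have h5 : Smooth P.hom := hp.2.2.1
  have h6 : IsAffineHom P.hom := by
    have := Over.w p
    rw [← this]
    infer_instance
  have h7 : IsAffine P.left := isAffine_of_isAffineHom P.hom
  obtain ⟨H, _, _, i, hi⟩ := AffHopf.exists_hopf P
  have h8 : Algebra.Smooth A H := AffHopf.smooth_of_iso i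
  have h9 : IsMonHom i.symm.hom := inferInstanceAs (IsMonHom i.inv)
  obtain ⟨n, B, _, _, hEt, hB', hff, hcov⟩ :=
    DynCov383.exists_finite_etale (fun B _ _ => ∃ L : LD (sB A B) p, L.D.P.IsReduced)
      (locStmt hG p hp)
  choose L₀ hred using hB'
  have hex : ∀ i, ∃ (m : ℕ) (y : Module.Dual ℤ (L₀ i).D.M), 0 < m ∧
      IsHtw (L₀ i).D.P (L₀ i).x m y := by
    intro i
    have := hred i
    obtain ⟨m, y, hm, hy⟩ := exists_isHtw (L₀ i).D.pairing_eq (L₀ i).x
    obtain ⟨m, rfl⟩ := Int.eq_ofNat_of_zero_le hm.le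
    exact ⟨m, y, by exact_mod_cast hm, hy⟩
  choose m y hm hy using hex
  obtain ⟨N, hN, hdvd⟩ : ∃ N : ℕ, 0 < N ∧ ∀ i, m i ∣ N :=
    ⟨∏ i, m i, Finset.prod_pos fun i _ => hm i,
      fun i => Finset.dvd_prod_of_mem m (Finset.mem_univ i)⟩
  obtain ⟨L⟩ : Nonempty (∀ i, HD (sB A (B i)) p (N : ℤ)) := ⟨fun i =>
    { L := L₀ i
      y := ((N / m i : ℕ) : ℤ) • y i
      hy := by
        have h := (hy i).smul ((N / m i : ℕ) : ℤ)
        rwa [← Nat.cast_mul, Nat.div_mul_cancel (hdvd i)] at h }⟩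
  have hN' : (0 : ℤ) < N := by exact_mod_cast hN
  obtain ⟨lam, hlam, hw⟩ := main₀ (p := p) i.symm hN' B hff L
  have hcov' : EtHom.IsCov fun i => sB A (B i) := hcov
  have hdyn := isDynP_of_conj hN' hcov' L lam hlam hw
  refine ⟨N, lam, hN, hlam, hdyn, fun s => ?_⟩
  obtain ⟨j, s', hs'⟩ := hcov.surj s
  obtain ⟨w, hw⟩ := hw j
  refine ⟨B j, inferInstance, inferInstance, hEt j, ⟨s', hs'⟩, ?_⟩
  obtain ⟨L', hL'⟩ := exists_conj (L j) w
  exact ⟨L', isConj_unique hL' hw⟩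

/-- **The height cocharacter**, in terms of the values on the roots. -/
theorem exists_ht (hG : Red.IsReductive G) (p : P ⟶ G) (hP : Red.IsParabolic p) :
    ∃ (N : ℕ) (lam : Red.Gm (Spec (CommRingCat.of A)) ⟶ G), 1 ≤ N ∧ IsMonHom lam ∧
      Groth.Agent.Sga3B.Parab.IsDynP lam p ∧
      ∀ s : Spec (CommRingCat.of A), ∃ (B : Type u) (_ : CommRing B) (_ : Algebra A B),
        Algebra.Etale A B ∧
        s ∈ Set.range (Spec.map (CommRingCat.ofHom (algebraMap A B))) ∧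
        ∃ (D : Red.SplitRed (Red.bc (Spec.map (CommRingCat.ofHom (algebraMap A B))) G))
          (y : Module.Dual ℤ D.M),
          Groth.Agent.Sga3B.Parab.bcLam lam (Spec.map (CommRingCat.ofHom (algebraMap A B))) =
            Groth.Agent.Sga3B.Par.coch D y ∧
          (∀ a, (N : ℤ) ∣ y (D.P.root a)) ∧
          ∀ (a : D.idx) (j : ℕ), 1 ≤ j → (N : ℤ) * j ≤ y (D.P.root a) →
            ∃ b, y (D.P.root b) = N * j := by
  obtain ⟨N, lam, hN, hlam, hdyn, hloc⟩ := exists_htP hG p hP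
  have hpm : IsMonHom p := hP.1
  refine ⟨N, lam ≫ p, hN, inferInstance, hdyn, fun s => ?_⟩
  obtain ⟨B, i1, i2, h1, h2, L, hL⟩ := hloc s
  refine ⟨B, i1, i2, h1, h2, L.L.D, L.y, ?_, L.hy.dvd, fun a j hj ha => ?_⟩
  · rw [bcLam_comp]
    change bcLam lam (sB A B) ≫ (Over.pullback (sB A B)).map p = _
    rw [← hL, L.co_comp]
  · obtain ⟨b, hb⟩ := L.hy.exists_val (by exact_mod_cast hN) a j (by exact_mod_cast hj)
      (by rw [mul_comm]; exact ha)
    exact ⟨b, by rw [hb, mul_comm]⟩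

end

end Groth.Agent.Par.K208.HtCochar
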