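import Groth.Agent.Par.K208.HtRoot
import Groth.Agent.Sga3B.Par.LDBc149
import Groth.Agent.Sga3B.Par.Agree895

/-!
# Height data adapted to a parabolic subgroup

`HD c p m`: a splitting adapted to `P` over `c : T ⟶ S` together with the height coweight of
scale `m`. The resulting cocharacters of `P` have `P = P_G(λ)`, agree modulo the unipotent
radical, and are compatible with base change.
-/

set_option autoImplicit false

universe u

open CategoryTheory MonoidalCategory CartesianMonoidalCategory MonObj GrpObj AlgebraicGeometry Limits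
open Groth.Agent.Sga3B Groth.Agent.Sga3B.Parab Groth.Agent.Sga3B.Parab.Dyn998
open Groth.Agent.Sga3B.Parab.DynLevi998 Groth.Agent.Sga3B.Parab.DynClosed998
open Groth.Agent.Sga3B.Parab.DynExist998 Groth.Agent.Sga3B.Par Groth.Agent.Sga3B.Par.LeviProj
open Groth.Agent.Sga3B.RedIso

namespace Groth.Agent.Par.K208

variable {S T T' : Scheme.{u}} {G P : Over S} [GrpObj G] [GrpObj P]

/-- Splitting data for `p : P ⟶ G` with a height coweight of scale `m`. -/
structure HD (c : T ⟶ S) (p : P ⟶ G) (m : ℤ) where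
  /-- the splitting -/
  L : LD c p
  /-- the height coweight -/
  y : Module.Dual ℤ L.D.M
  hy : IsHtw L.D.P L.x m y

namespace HD

variable {c : T ⟶ S} {p : P ⟶ G} {m : ℤ}

/-- The height cocharacter of `P`. -/
noncomputable def co (L : HD c p m) : Red.Gm T ⟶ Red.bc c P :=
  cochT L.L.D L.y ≫ L.L.j

lemma co_comp (L : HD c p m) :
    L.co ≫ (Over.pullback c).map p = coch L.L.D L.y := by
  rw [co, Category.assoc, L.L.hj, coch]

/-- Base change. -/
noncomputable def bc (L : HD c p m) (q : T' ⟶ T) : HD (q ≫ c) p m where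
  L := L.L.bc q
  y := L.y
  hy := L.hy

lemma bc_co (L : HD c p m) (q : T' ⟶ T) :
    (L.bc q).co = bcLam L.co q ≫ (und (BcIso.bcCompIso q c P)).inv := by
  have h1 := cochT_splitBcComp q c L.L.D L.y
  have h2 := bcLam_comp (cochT L.L.D L.y) L.L.j q
  rw [co, co, h2, Category.assoc]
  exact congrArg (fun k => k ≫ (Over.pullback q).map L.L.j ≫
    (und (BcIso.bcCompIso q c P)).inv) h1

theorem bc_co_left (L : HD c p m) (q : T' ⟶ T) :
    (L.bc q).co.left ≫ pullback.fst P.hom (q ≫ c) =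
      (bcLam L.co q).left ≫ pullback.fst (Red.bc c P).hom q ≫ pullback.fst P.hom c := by
  rw [bc_co, Over.comp_left, Category.assoc, LD.comp_inv_left]

theorem exists_bc (L : HD c p m) (q : T' ⟶ T) : ∃ L' : HD (q ≫ c) p m,
    L'.co.left ≫ pullback.fst P.hom (q ≫ c) =
      (bcLam L.co q).left ≫ pullback.fst (Red.bc c P).hom q ≫ pullback.fst P.hom c :=
  ⟨L.bc q, L.bc_co_left q⟩

theorem exists_bc' (L : HD c p m) (q : T' ⟶ T) (c' : T' ⟶ S) (h : q ≫ c = c') :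
    ∃ L' : HD c' p m, L'.co.left ≫ pullback.fst P.hom c' =
      (bcLam L.co q).left ≫ pullback.fst (Red.bc c P).hom q ≫ pullback.fst P.hom c := by
  subst h
  exact L.exists_bc q

instance isMonHom_co [IsMonHom p] [IsClosedImmersion p.left] (L : HD c p m) : IsMonHom L.co := by
  have h1 : IsClosedImmersion ((Over.pullback c).map p).left :=
    Inter.isClosedImmersion_bc c p inferInstance
  have h2 : Mono ((Over.pullback c).map p) := Groth.Agent.Sga3B.Parab.DynClosed998.mono_of_isClosedImmersion _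
  have h3 : IsMonHom (L.co ≫ (Over.pullback c).map p) := by
    rw [co_comp]
    unfold coch
    infer_instance
  exact isMonHom_of_comp_mono (p := (Over.pullback c).map p)

theorem isDynP_coch (L : HD c p m) (hm : 0 < m) :
    IsDynP (coch L.L.D L.y) ((Over.pullback c).map p) :=
  isDynP_of_signs (fun a => (L.hy.nonneg_iff hm a).symm) L.L.dyn

theorem isDynP_co [IsMonHom p] [IsClosedImmersion p.left] (L : HD c p m) (hm : 0 < m) :
    IsDynP L.co (𝟙 (Red.bc c P)) := by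
  have h1 : IsClosedImmersion ((Over.pullback c).map p).left :=
    Inter.isClosedImmersion_bc c p inferInstance
  apply IsDynP.of_comp (i := (Over.pullback c).map p)
  rw [co_comp, Category.id_comp]
  exact L.isDynP_coch hm

end HD

section conj

variable {C : Type u} [CommRing C] {c : Spec (CommRingCat.of C) ⟶ S}
variable {D₁ D₂ : Red.SplitRed G} {e : RootPairing.Equiv D₁.P D₂.P}
variable {p : P ⟶ G} {x₁ y₁ : Module.Dual ℤ D₁.M} {x₂ y₂ : Module.Dual ℤ D₂.M} {m : ℤ}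

/-- The height coweights correspond. -/
theorem htw_eq [Nontrivial C] (h₁ : IsDynP (coch D₁ x₁) p) (h₂ : IsDynP (coch D₂ x₂) p)
    (hm : 0 < m) (hy₁ : IsHtw D₁.P x₁ m y₁) (hy₂ : IsHtw D₂.P x₂ m y₂)
    (g : aff C c ⟶ P) (h : TorConj D₁ D₂ (g ≫ p) e) :
    y₂ = push e y₁ := by
  refine hy₂.ext D₂.pairing_eq (hy₁.push D₁.pairing_eq D₂.pairing_eq e) hm fun a => ?_
  have h1 := nonneg_iff h₁ h₂ g h (D₂.P.reflectionPerm a a)
  rw [root_neg, map_neg, map_neg] at h1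
  omega

/-- The height cocharacters of two splittings are conjugate, as homomorphisms to `P`. -/
theorem conj_htw [Nontrivial C] (h₁ : IsDynP (coch D₁ x₁) p) (h₂ : IsDynP (coch D₂ x₂) p)
    (hm : 0 < m) (hy₁ : IsHtw D₁.P x₁ m y₁) (hy₂ : IsHtw D₂.P x₂ m y₂)
    (g : aff C c ⟶ P) (h : TorConj D₁ D₂ (g ≫ p) e) {j₁ : D₁.T ⟶ P} (hj₁ : j₁ ≫ p = D₁.i)
    {j₂ : D₂.T ⟶ P} (hj₂ : j₂ ≫ p = D₂.i) {B : Type u} [CommRing B]
    {b : Spec (CommRingCat.of B) ⟶ S} (r : aff B b ⟶ aff C c) (t : aff B b ⟶ Red.Gm S) :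
    (r ≫ g) * (t ≫ cochT D₁ y₁ ≫ j₁) * (r ≫ g)⁻¹ = t ≫ cochT D₂ y₂ ≫ j₂ := by
  have := h₁.isMonHom
  have := h₁.mono
  rw [← cancel_mono p, MonObj.mul_comp, MonObj.mul_comp, GrpObj.inv_comp]
  have h3 := h.coch y₁ r t
  rw [← htw_eq h₁ h₂ hm hy₁ hy₂ g h] at h3
  simp only [Category.assoc, hj₁, hj₂]
  rw [← Category.assoc r]
  exact h3

end conj

section

variable {U L : Over S} [GrpObj U] [GrpObj L] {p : P ⟶ G} {m : ℤ}

/-- The images in `P / U` of the height cocharacters of two splittings agree. -/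
theorem htw_prL {D₁ D₂ : Red.SplitRed G} {x₁ y₁ : Module.Dual ℤ D₁.M} {x₂ y₂ : Module.Dual ℤ D₂.M}
    (h₁ : IsDynP (coch D₁ x₁) p) (h₂ : IsDynP (coch D₂ x₂) p)
    (hm : 0 < m) (hy₁ : IsHtw D₁.P x₁ m y₁) (hy₂ : IsHtw D₂.P x₂ m y₂)
    {j₁ : D₁.T ⟶ P} (hj₁ : j₁ ≫ p = D₁.i) {j₂ : D₂.T ⟶ P} (hj₂ : j₂ ≫ p = D₂.i)
    {l : L ⟶ P} {u : U ⟶ P} (h : IsSemi l u)
    (hl : Red.IsCentralizerOf (cochT D₁ y₁ ≫ j₁) l)
    [IsAffineHom L.hom] [LocallyOfFiniteType L.hom] :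
    (cochT D₂ y₂ ≫ j₂) ≫ prL h = (cochT D₁ y₁ ≫ j₁) ≫ prL h := by
  have hp := h₁.isMonHom
  have hmo := h₁.mono
  have haff : IsAffineHom G.hom := D₁.reductive.1
  have hcl := h₁.isClosedImmersion
  have hconj := exists_torConj_geom (p := p) D₁ D₂ hj₁ hj₂
  have hj₁' : IsMonHom j₁ := isMonHom_of_comp_mono' hj₁
  have hj₂' : IsMonHom j₂ := isMonHom_of_comp_mono' hj₂
  set c₁ : Red.Gm S ⟶ P := cochT D₁ y₁ ≫ j₁ with hc₁
  set c₂ : Red.Gm S ⟶ P := cochT D₂ y₂ ≫ j₂ with hc₂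
  have hmc₁ : IsMonHom c₁ := inferInstance
  have hmc₂ : IsMonHom c₂ := inferInstance
  obtain ⟨k, hk⟩ : ∃ k : Red.Gm S ⟶ L, k ≫ l = c₁ := by
    apply (hl.2.2 _ c₁).2
    intro X' x t
    rw [← MonObj.mul_comp x t c₁, ← MonObj.mul_comp t x c₁, CanRig.ds_mul_comm]
  have hcm : c₁ ≫ prL h = k := by rw [← hk, fac_l_prL]
  have hcent : ∀ (X : Over S) (t : X ⟶ Red.Gm S) (z : X ⟶ L),
      (t ≫ k) * z = z * (t ≫ k) := by
    intro X t z
    have := hl.2.1
    have := hl.1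
    rw [← cancel_mono l, MonObj.mul_comp, MonObj.mul_comp, Category.assoc, hk]
    have h3 := (hl.2.2 _ (z ≫ l)).1 ⟨z, rfl⟩ X (𝟙 X) t
    rw [Category.id_comp] at h3
    exact h3.symm
  apply CanRig.eq_of_geomFibres
  · intro X x y
    rw [hcm, hcent]
  · intro s
    apply pullback_map_eq
    intro B _ r t
    obtain ⟨g, e, hg⟩ := hconj s
    have h3 := conj_htw h₁ h₂ hm hy₁ hy₂ g hg hj₁ hj₂ (Over.homMk r rfl) t
    have h4 : t ≫ c₂ = (Over.homMk r rfl ≫ g) * (t ≫ c₁) * (Over.homMk r rfl ≫ g)⁻¹ := h3.symm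
    have h5 : (t ≫ c₂) ≫ prL h = (t ≫ c₁) ≫ prL h := by
      rw [h4, mul_prL, mul_prL, GrpObj.inv_comp, Category.assoc t c₁, hcm, ← hcent]
      group
    rw [Category.assoc, Category.assoc] at h5
    exact h5

end

/-- the height cocharacters agree modulo the unipotent radical -/
theorem HD.ptU_co {c : T ⟶ S} {p : P ⟶ G} {m : ℤ} [IsMonHom p] [IsClosedImmersion p.left]
    [IsAffineHom (Red.bc c P).hom] [LocallyOfFiniteType (Red.bc c P).hom] (hm : 0 < m)
    (L₁ L₂ : HD c p m) (X : Over T) (t : X ⟶ Red.Gm T) :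
    PtU L₁.co ((t ≫ L₁.co) * (t ≫ L₂.co)⁻¹) := by
  obtain ⟨L, U, iL, iU, l, u, hs, hc, hu, aL, fL⟩ :=
    Agree895.exists_semi L₁.co (L₁.isDynP_co hm)
  have key : L₂.co ≫ LeviProj.prL hs = L₁.co ≫ LeviProj.prL hs :=
    htw_prL L₁.L.dyn L₂.L.dyn hm L₁.hy L₂.hy L₁.L.hj L₂.L.hj hs hc
  obtain ⟨b, hb⟩ := LeviProj.exists_of_prL_eq_one hs ((t ≫ L₁.co) * (t ≫ L₂.co)⁻¹) (by
    rw [MonObj.mul_comp, GrpObj.inv_comp, Category.assoc, Category.assoc, key, mul_inv_cancel])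
  rw [← hb]
  exact hu.ptU.comp b

end Groth.Agent.Par.K208
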