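import Groth.Agent.Sga3B.Par.CanN2
import Groth.Agent.Sga3B.IsomComb
import Groth.Agent.RedSub.K195.RootFun
import Mathlib.LinearAlgebra.Matrix.ToLinearEquiv

/-!
# The height coweight of a parabolic subset

For a root datum `P` on a lattice `M` and a coweight `x`, a coweight `y` in the coroot lattice is
a height coweight of scale `m` for `x` (`IsHtw P x m y`) if for some base on which `x` is
nonnegative `y` takes the value `m` on the simple roots on which `x` is positive and `0` on those
on which `x` vanishes. It is unique and depends only on the signs of `x`; it exists for some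
`m > 0`, and then for all multiples of `m`.
-/

set_option autoImplicit false

open RootPairing Module

namespace Groth.Agent.Par.K208

section

variable {ι M : Type} [AddCommGroup M] (P : RootPairing ι ℤ M (Dual ℤ M))

/-- `y` is a height coweight of scale `m` for `x`. -/
structure IsHtw (x : Dual ℤ M) (m : ℤ) (y : Dual ℤ M) : Prop where
  mem : y ∈ Submodule.span ℤ (Set.range P.coroot)
  base : ∃ b : P.Base, (∀ i ∈ b.support, 0 ≤ x (P.root i)) ∧
    ∀ i ∈ b.support, y (P.root i) = if x (P.root i) = 0 then 0 else m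

variable {P} {x x' y y' : Dual ℤ M} {m m' : ℤ}

/-- multiples -/
theorem IsHtw.smul (h : IsHtw P x m y) (k : ℤ) : IsHtw P x (k * m) (k • y) where
  mem := Submodule.smul_mem _ _ h.mem
  base := by
    obtain ⟨b, h1, h2⟩ := h.base
    refine ⟨b, h1, fun i hi => ?_⟩
    rw [LinearMap.smul_apply, h2 i hi, smul_eq_mul]
    split_ifs <;> simp

lemma root_neg (a : ι) : P.root (P.reflectionPerm a a) = - P.root a := by
  rw [P.root_reflectionPerm, P.reflection_apply_self]

/-- values on the positive roots -/
lemma exists_val (b : P.Base) (x y : Dual ℤ M) (a : ι) :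
    ∃ f : ι → ℕ, (y (P.root a) = ∑ j ∈ b.support, f j * y (P.root j) ∧
      x (P.root a) = ∑ j ∈ b.support, f j * x (P.root j)) ∨
      (y (P.root a) = - ∑ j ∈ b.support, f j * y (P.root j) ∧
      x (P.root a) = - ∑ j ∈ b.support, f j * x (P.root j)) := by
  obtain ⟨f, -, hf | hf⟩ := b.exists_root_eq_sum_nat_or_neg a
  · refine ⟨f, Or.inl ⟨?_, ?_⟩⟩ <;> rw [hf, map_sum] <;>
      exact Finset.sum_congr rfl fun j _ => by rw [map_nsmul, nsmul_eq_mul]
  · refine ⟨f, Or.inr ⟨?_, ?_⟩⟩ <;> rw [hf, map_neg, map_sum] <;> congr 1 <;>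
      exact Finset.sum_congr rfl fun j _ => by rw [map_nsmul, nsmul_eq_mul]

/-- the same signs on a base -/
lemma sign_of_base (b : P.Base) (hx : ∀ i ∈ b.support, 0 ≤ x (P.root i))
    (hy : ∀ i ∈ b.support, 0 ≤ y (P.root i))
    (hxy : ∀ i ∈ b.support, y (P.root i) = 0 ↔ x (P.root i) = 0) (a : ι) :
    0 ≤ y (P.root a) ↔ 0 ≤ x (P.root a) := by
  have key : ∀ f : ι → ℕ, ∑ j ∈ b.support, (f j : ℤ) * y (P.root j) = 0 ↔
      ∑ j ∈ b.support, (f j : ℤ) * x (P.root j) = 0 := by
    intro f
    rw [Finset.sum_eq_zero_iff_of_nonneg (fun j hj => mul_nonneg (by positivity) (hy j hj)),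
      Finset.sum_eq_zero_iff_of_nonneg (fun j hj => mul_nonneg (by positivity) (hx j hj))]
    exact forall₂_congr fun j hj => by rw [mul_eq_zero, mul_eq_zero, hxy j hj]
  have hny : ∀ f : ι → ℕ, 0 ≤ ∑ j ∈ b.support, (f j : ℤ) * y (P.root j) := fun f =>
    Finset.sum_nonneg fun j hj => mul_nonneg (by positivity) (hy j hj)
  have hnx : ∀ f : ι → ℕ, 0 ≤ ∑ j ∈ b.support, (f j : ℤ) * x (P.root j) := fun f =>
    Finset.sum_nonneg fun j hj => mul_nonneg (by positivity) (hx j hj)
  obtain ⟨f, ⟨h1, h2⟩ | ⟨h1, h2⟩⟩ := exists_val b x y a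
  · rw [h1, h2]
    exact ⟨fun _ => hnx f, fun _ => hny f⟩
  · rw [h1, h2, neg_nonneg, neg_nonneg]
    constructor
    · intro h
      exact ((key f).1 (le_antisymm h (hny f))).le
    · intro h
      exact ((key f).2 (le_antisymm h (hnx f))).le

/-- a height coweight has the same signs -/
theorem IsHtw.nonneg_iff (h : IsHtw P x m y) (hm : 0 < m) (a : ι) :
    0 ≤ y (P.root a) ↔ 0 ≤ x (P.root a) := by
  obtain ⟨b, h1, h2⟩ := h.base
  apply sign_of_base b h1
  · intro i hi
    rw [h2 i hi]
    split_ifs <;> omega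
  · intro i hi
    rw [h2 i hi]
    constructor
    · intro h0
      by_contra hc
      rw [if_neg hc] at h0
      omega
    · intro h0
      rw [if_pos h0]

theorem IsHtw.pos_iff (h : IsHtw P x m y) (hm : 0 < m) (a : ι) :
    0 < y (P.root a) ↔ 0 < x (P.root a) := by
  have h1 := h.nonneg_iff hm (P.reflectionPerm a a)
  rw [root_neg, map_neg, map_neg] at h1
  omega

theorem IsHtw.eq_zero_iff (h : IsHtw P x m y) (hm : 0 < m) (a : ι) :
    y (P.root a) = 0 ↔ x (P.root a) = 0 := by
  have h1 := h.nonneg_iff hm a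
  have h2 := h.pos_iff hm a
  omega

/-- the values are multiples of the scale -/
theorem IsHtw.dvd (h : IsHtw P x m y) (a : ι) : m ∣ y (P.root a) := by
  obtain ⟨b, h1, h2⟩ := h.base
  have h3 : ∀ i ∈ b.support, m ∣ y (P.root i) := by
    intro i hi
    rw [h2 i hi]
    split_ifs
    · exact dvd_zero _
    · exact dvd_rfl
  obtain ⟨f, -, -, hf⟩ := b.exists_root_eq_sum_int a
  rw [hf, map_sum]
  refine Finset.dvd_sum fun j hj => ?_
  rw [map_zsmul, smul_eq_mul]
  exact Dvd.dvd.mul_left (h3 j hj) _

lemma le_of_pos [Finite ι] (h : IsHtw P x m y) (h' : IsHtw P x' m y') (hm : 0 < m)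
    (hs : ∀ a, 0 < x (P.root a) ↔ 0 < x' (P.root a)) (a : ι) (ha : 0 < x (P.root a)) :
    y' (P.root a) ≤ y (P.root a) := by
  obtain ⟨b, h1, h2⟩ := h'.base
  have hz : ∀ i ∈ b.support, x (P.root i) ≥ 0 := by
    intro i hi
    by_contra hc
    have h3 := (hs (P.reflectionPerm i i)).1 (by rw [root_neg, map_neg]; omega)
    rw [root_neg, map_neg] at h3
    have := h1 i hi
    omega
  obtain ⟨f, -, hf | hf⟩ := b.exists_root_eq_sum_nat_or_neg a
  · rw [hf, map_sum, map_sum]
    refine Finset.sum_le_sum fun j hj => ?_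
    rw [map_nsmul, map_nsmul]
    refine nsmul_le_nsmul_right ?_ _
    rw [h2 j hj]
    split_ifs with h0
    · exact (h.nonneg_iff hm j).2 (hz j hj)
    · have h3 : 0 < x' (P.root j) := lt_of_le_of_ne (h1 j hj) (Ne.symm h0)
      have h4 := (h.pos_iff hm j).2 ((hs j).2 h3)
      exact Int.le_of_dvd h4 (h.dvd j)
  · exfalso
    have h3 := (hs a).1 ha
    rw [hf, map_neg, map_sum] at h3
    have h4 : 0 ≤ ∑ j ∈ b.support, x' (f j • P.root j) := Finset.sum_nonneg fun j hj => by
      rw [map_nsmul]
      exact nsmul_nonneg (h1 j hj) _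
    omega

/-- coweights in the coroot lattice which agree on the roots are equal -/
lemma eq_of_root [Finite ι] [Free ℤ M] [Module.Finite ℤ M]
    (hP : P.toLinearMap = Dual.eval ℤ M)
    (hy : y ∈ Submodule.span ℤ (Set.range P.coroot)) (h : ∀ a, y (P.root a) = 0) : y = 0 := by
  have : Fintype ι := Fintype.ofFinite ι
  by_contra hne
  have h1 : 0 < P.flip.RootForm y y := P.flip.rootForm_pos_of_ne_zero hy hne
  rw [rootForm_apply_apply] at h1
  have h2 : ∀ i, P.flip.coroot' i y = 0 := by
    intro i
    have h3 : P.flip.coroot' i y = P.toLinearMap (P.root i) y := rfl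
    rw [h3, hP]
    exact h i
  simp [h2] at h1

/-- **The height coweight only depends on the signs.** -/
theorem IsHtw.ext [Finite ι] [Free ℤ M] [Module.Finite ℤ M]
    (hP : P.toLinearMap = Dual.eval ℤ M) (h : IsHtw P x m y) (h' : IsHtw P x' m y') (hm : 0 < m)
    (hs : ∀ a, 0 < x (P.root a) ↔ 0 < x' (P.root a)) : y = y' := by
  have h1 : ∀ a, 0 < x (P.root a) → y (P.root a) = y' (P.root a) := fun a ha =>
    le_antisymm (le_of_pos h' h hm (fun a => (hs a).symm) a ((hs a).1 ha))
      (le_of_pos h h' hm hs a ha)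
  rw [← sub_eq_zero]
  apply eq_of_root hP (Submodule.sub_mem _ h.mem h'.mem)
  intro a
  rw [LinearMap.sub_apply, sub_eq_zero]
  rcases lt_trichotomy (x (P.root a)) 0 with h0 | h0 | h0
  · have h2 := h1 (P.reflectionPerm a a) (by rw [root_neg, map_neg]; omega)
    rw [root_neg, map_neg, map_neg] at h2
    omega
  · rw [(h.eq_zero_iff hm a).2 h0]
    have h2 := hs a
    have h3 := hs (P.reflectionPerm a a)
    rw [root_neg, map_neg, map_neg] at h3
    exact ((h'.eq_zero_iff hm a).2 (by omega)).symm
  · exact h1 a h0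

/-- **No gaps**: if the value `k m` is taken, so are all `j m` for `1 ≤ j ≤ k`. -/
theorem IsHtw.exists_val [Finite ι] [Free ℤ M] [Module.Finite ℤ M] (h : IsHtw P x m y)
    (hm : 0 < m) (a : ι) (k : ℤ) (hk : 0 < k) (hka : k * m ≤ y (P.root a)) :
    ∃ c, y (P.root c) = k * m := by
  obtain ⟨b, h1, h2⟩ := h.base
  have hred : P.IsReduced := Sga3B.PinComb.isReduced b
  have hpos : b.IsPos a := by
    by_contra hc
    have h3 : b.IsPos (P.reflectionPerm a a) := by
      rcases Base.IsPos.or_neg b a with h4 | h4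
      · exact absurd h4 hc
      · exact h4
    have h4 : 0 ≤ y (P.root (P.reflectionPerm a a)) := by
      refine h3.induction_on_add (p := fun i => 0 ≤ y (P.root i)) ?_ ?_
      · intro i hi
        rw [h2 i hi]
        split_ifs <;> omega
      · intro i j l hl hi hj
        rw [hl, map_add]
        have : 0 ≤ y (P.root j) := by
          rw [h2 j hj]
          split_ifs <;> omega
        omega
    rw [root_neg, map_neg] at h4
    nlinarith
  revert hka
  refine hpos.induction_on_add (p := fun i => k * m ≤ y (P.root i) → ∃ c, y (P.root c) = k * m)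
    ?_ ?_
  · intro i hi h3
    refine ⟨i, le_antisymm ?_ h3⟩
    rw [h2 i hi] at h3 ⊢
    split_ifs at h3 ⊢ <;> nlinarith
  · intro i j l hl hi hj h3
    rcases le_or_gt (k * m) (y (P.root i)) with h4 | h4
    · exact hi h4
    · refine ⟨l, le_antisymm ?_ h3⟩
      rw [hl, map_add, h2 j hj]
      obtain ⟨d, hd⟩ := h.dvd i
      rw [hd] at h4 ⊢
      have h5 : d < k := by
        by_contra hc
        have := mul_le_mul_of_nonneg_left (not_lt.1 hc) hm.le
        nlinarith
      split_ifs <;> nlinarith

end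

section

variable {ι M ι' M' : Type} [AddCommGroup M] [AddCommGroup M']
  {P : RootPairing ι ℤ M (Dual ℤ M)} {P' : RootPairing ι' ℤ M' (Dual ℤ M')}
  {x y : Dual ℤ M} {m : ℤ}

/-- Transport along an isomorphism of root data. -/
theorem IsHtw.push (hP : P.toLinearMap = Dual.eval ℤ M) (hP' : P'.toLinearMap = Dual.eval ℤ M')
    (h : IsHtw P x m y) (e : RootPairing.Equiv P P') :
    IsHtw P' (Sga3B.Par.push e x) m (Sga3B.Par.push e y) where
  mem := by
    have h1 := h.mem
    clear h
    induction h1 using Submodule.span_induction with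
    | mem z hz =>
      obtain ⟨a, rfl⟩ := hz
      rw [Sga3B.Par.push_coroot hP hP']
      exact Submodule.subset_span ⟨_, rfl⟩
    | zero =>
      have : Sga3B.Par.push e (0 : Dual ℤ M) = 0 := rfl
      rw [this]
      exact Submodule.zero_mem _
    | add u v _ _ hu hv =>
      have : Sga3B.Par.push e (u + v) = Sga3B.Par.push e u + Sga3B.Par.push e v := rfl
      rw [this]
      exact Submodule.add_mem _ hu hv
    | smul k u _ hu =>
      have : Sga3B.Par.push e (k • u) = k • Sga3B.Par.push e u := rfl
      rw [this]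
      exact Submodule.smul_mem _ _ hu
  base := by
    obtain ⟨b, h1, h2⟩ := h.base
    refine ⟨Sga3B.IsomComb.pullBase e.symm b, ?_, ?_⟩
    · intro i hi
      rw [Sga3B.IsomComb.mem_pullBase] at hi
      have h3 := Sga3B.Par.push_root e x (e.symm.indexEquiv i)
      have h4 : e.indexEquiv (e.symm.indexEquiv i) = i := e.indexEquiv.apply_symm_apply i
      rw [h4] at h3
      rw [h3]
      exact h1 _ hi
    · intro i hi
      rw [Sga3B.IsomComb.mem_pullBase] at hi
      have h3 := Sga3B.Par.push_root e x (e.symm.indexEquiv i)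
      have h5 := Sga3B.Par.push_root e y (e.symm.indexEquiv i)
      have h4 : e.indexEquiv (e.symm.indexEquiv i) = i := e.indexEquiv.apply_symm_apply i
      rw [h4] at h3 h5
      rw [h3, h5]
      exact h2 _ hi

end

section

variable {ι M : Type} [AddCommGroup M] {P : RootPairing ι ℤ M (Dual ℤ M)}
  [Finite ι] [Free ℤ M] [Module.Finite ℤ M]

open Classical in
lemma det_ne_zero (hP : P.toLinearMap = Dual.eval ℤ M) (b : P.Base) :
    (Matrix.of fun i j : b.support => P.coroot j (P.root i)).det ≠ 0 := by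
  have : Fintype ι := Fintype.ofFinite ι
  intro h0
  obtain ⟨v, hv, hv0⟩ := Matrix.exists_vecMul_eq_zero_iff.2 h0
  let r : M := ∑ i : b.support, v i • P.root i
  have h1 : ∀ j : b.support, P.coroot j r = 0 := by
    intro j
    have := congrFun hv0 j
    simp only [Matrix.vecMul, dotProduct, Matrix.of_apply, Pi.zero_apply] at this
    simp only [r, map_sum, map_zsmul, smul_eq_mul]
    exact this
  have h2 : ∀ a, P.coroot a r = 0 := by
    intro a
    have h3 := b.coroot_mem_span_int a
    generalize P.coroot a = z at h3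
    induction h3 using Submodule.span_induction with
    | mem z hz =>
      obtain ⟨j, hj, rfl⟩ := hz
      exact h1 ⟨j, hj⟩
    | zero => rfl
    | add u w _ _ hu hw => rw [LinearMap.add_apply, hu, hw, add_zero]
    | smul k u _ hu => rw [LinearMap.smul_apply, hu, smul_zero]
  have hr : r ∈ P.rootSpan ℤ := Submodule.sum_mem _ fun i _ =>
    Submodule.smul_mem _ _ (Submodule.subset_span ⟨_, rfl⟩)
  have hr0 : r = 0 := by
    by_contra hne
    have h3 := P.rootForm_pos_of_ne_zero hr hne
    rw [rootForm_apply_apply] at h3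
    have h4 : ∀ i, P.coroot' i r = 0 := by
      intro i
      have h5 : P.coroot' i r = P.toLinearMap r (P.coroot i) := rfl
      rw [h5, hP]
      exact h2 i
    simp [h4] at h3
  apply hv
  have h5 := Fintype.linearIndependent_iff.1 b.linearIndepOn_root v hr0
  exact funext h5

/-- **Existence of height coweights.** -/
theorem exists_isHtw [P.IsReduced] (hP : P.toLinearMap = Dual.eval ℤ M) (x : Dual ℤ M) :
    ∃ (m : ℤ) (y : Dual ℤ M), 0 < m ∧ IsHtw P x m y := by
  classical
  obtain ⟨b, hb⟩ := K195.RootFun.exists_base P x.toAddMonoidHom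
  have hx : ∀ i ∈ b.support, 0 ≤ x (P.root i) := by
    intro i hi
    by_contra hc
    have h1 := hb (P.reflectionPerm i i) (by
      change 0 < x (P.root (P.reflectionPerm i i))
      rw [root_neg, map_neg]
      omega)
    have h2 : b.IsPos (P.reflectionPerm i i) :=
      (Groth.Agent.RedSub.H633.PosRoots.mem_posRoots_iff_isPos b).1 h1
    have h3 := b.isPos_of_mem_support hi
    exact (Base.IsPos.neg_iff_not b i).1 h2 h3
  let C : Matrix b.support b.support ℤ := Matrix.of fun i j => P.coroot j (P.root i)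
  have hC : C.det ≠ 0 := det_ne_zero hP b
  let f : b.support → ℤ := fun i => if x (P.root i) = 0 then 0 else 1
  let c : b.support → ℤ := C.adjugate.mulVec f
  let y : Dual ℤ M := ∑ j : b.support, (C.det * c j) • P.coroot j
  have hy : ∀ i : b.support, y (P.root i) = C.det * C.det * f i := by
    intro i
    have h1 : C.mulVec c i = C.det * f i := by
      rw [Matrix.mulVec_mulVec, Matrix.mul_adjugate, Matrix.smul_mulVec, Matrix.one_mulVec]
      rfl
    simp only [y, LinearMap.sum_apply, LinearMap.smul_apply, smul_eq_mul]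
    rw [mul_assoc, ← h1]
    simp only [Matrix.mulVec, dotProduct, C, Matrix.of_apply, Finset.mul_sum]
    exact Finset.sum_congr rfl fun j _ => by ring
  refine ⟨C.det * C.det, y, mul_self_pos.2 hC, ?_, b, hx, ?_⟩
  · exact Submodule.sum_mem _ fun j _ => Submodule.smul_mem _ _ (Submodule.subset_span ⟨_, rfl⟩)
  · intro i hi
    rw [hy ⟨i, hi⟩]
    simp only [f]
    split_ifs <;> simp

end

end Groth.Agent.Par.K208
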